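import Groth.Agent.TotalQis.Basic

/-!
# The row-by-row chase
-/

set_option autoImplicit false
set_option backward.isDefEq.respectTransparency false
set_option backward.isDefEq.respectTransparency.types false

universe v u

open CategoryTheory Limits HomologicalComplex

namespace Groth.Agent.TotalQis

variable {A : Type u} [Category.{v} A] [Abelian A]
  {K L : HomologicalComplex₂ A (ComplexShape.up ℤ) (ComplexShape.up ℤ)}
  [K.HasTotal (ComplexShape.up ℤ)] [L.HasTotal (ComplexShape.up ℤ)] (φ : K ⟶ L)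

theorem map_pr (n p q : ℤ) (h : p + q = n) :
    (HomologicalComplex₂.total.map φ (ComplexShape.up ℤ)).f n ≫ pr L n p q h =
      pr K n p q h ≫ (φ.f p).f q := by
  apply HomologicalComplex₂.total.hom_ext
  intro p' q' h'
  simp at h'
  rw [HomologicalComplex₂.ιTotal_map_assoc]
  by_cases e : q' = q
  · subst e
    obtain rfl : p' = p := by omega
    simp [ι_pr, ι_pr_assoc]
  · simp [ι_pr_ne _ _ _ _ _ _ _ _ e, ι_pr_ne_assoc _ _ _ _ _ _ _ _ e]

variable (K) in
theorem ιpr_comp_eq_zero {W : A} (x : ℤ) (n p q p' : ℤ) (h : p + q = n) (h' : p' + x = n) (hne : x ≠ q)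
    (f : W ⟶ (K.X p').X x) :
    f ≫ K.ιTotal (ComplexShape.up ℤ) p' x n (by simpa using h') ≫ pr K n p q h = 0 := by
  rw [ι_pr_ne K _ _ _ _ _ _ _ hne, comp_zero]

theorem chase (a b : ℤ) (hK : ∀ p q : ℤ, p < a ∨ q < b → IsZero ((K.X p).X q))
    (hL : ∀ p q : ℤ, p < a ∨ q < b → IsZero ((L.X p).X q)) [QuasiIso φ] (m : ℤ) :
    ∀ (N : ℕ) (r : ℤ), m + 3 - a - r ≤ N → ∀ {W : A}
      (u : W ⟶ (K.total (ComplexShape.up ℤ)).X (m + 1 + 1))
      (z : W ⟶ (L.total (ComplexShape.up ℤ)).X (m + 1)),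
      u ≫ (K.total (ComplexShape.up ℤ)).d (m + 1 + 1) (m + 1 + 1 + 1) = 0 →
      u ≫ (HomologicalComplex₂.total.map φ (ComplexShape.up ℤ)).f (m + 1 + 1) +
        z ≫ (L.total (ComplexShape.up ℤ)).d (m + 1) (m + 1 + 1) = 0 →
      (∀ p q (h : p + q = m + 1 + 1), q < r → u ≫ pr K _ p q h = 0) →
      (∀ p q (h : p + q = m + 1), q < r → z ≫ pr L _ p q h = 0) →
      ∃ (W' : A) (π : W' ⟶ W) (_ : Epi π) (w : W' ⟶ (K.total (ComplexShape.up ℤ)).X (m + 1))
        (v : W' ⟶ (L.total (ComplexShape.up ℤ)).X m),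
        w ≫ (K.total (ComplexShape.up ℤ)).d (m + 1) (m + 1 + 1) = -(π ≫ u) ∧
        w ≫ (HomologicalComplex₂.total.map φ (ComplexShape.up ℤ)).f (m + 1) +
          v ≫ (L.total (ComplexShape.up ℤ)).d m (m + 1) = π ≫ z := by
  intro N
  induction N with
  | zero =>
    intro r hr W u z hu hz hsu hsz
    have hu0 : u = 0 := ext_pr a b hK fun p q h => by
      rw [zero_comp]
      by_cases hq : q < r
      · exact hsu p q h hq
      · exact (hK p q (Or.inl (by omega))).eq_of_tgt _ _
    have hz0 : z = 0 := ext_pr a b hL fun p q h => by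
      rw [zero_comp]
      by_cases hq : q < r
      · exact hsz p q h hq
      · exact (hL p q (Or.inl (by omega))).eq_of_tgt _ _
    exact ⟨W, 𝟙 W, inferInstance, 0, 0, by simp [hu0], by simp [hz0]⟩
  | succ N ih =>
    intro r hr W u z hu hz hsu hsz
    obtain ⟨k, hk⟩ : ∃ k, k + r = m := ⟨m - r, by omega⟩
    let E := (HomologicalComplex.eval A (ComplexShape.up ℤ) r).mapHomologicalComplex (ComplexShape.up ℤ)
    let ur : W ⟶ (E.obj K).X (k + 1 + 1) := u ≫ pr K _ (k + 1 + 1) r (by omega)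
    let zr : W ⟶ (E.obj L).X (k + 1) := z ≫ pr L _ (k + 1) r (by omega)
    have hur : ur ≫ (E.obj K).d (k + 1 + 1) (k + 1 + 1 + 1) = 0 := by
      have h1 := congrArg (fun t => t ≫ pr K _ (k + 1 + 1 + 1) r (by omega)) hu
      rw [zero_comp, Category.assoc, d_pr (m + 1 + 1) (k + 1 + 1) (k + 1 + 1 + 1) (r - 1) r rfl (by omega),
        Preadditive.comp_add, Linear.comp_units_smul, reassoc_of% (hsu (k + 1 + 1 + 1) (r - 1) (by omega) (by omega)),
        zero_comp, smul_zero, add_zero, ← Category.assoc] at h1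
      exact h1
    have hzr : ur ≫ (E.map φ).f (k + 1 + 1) + zr ≫ (E.obj L).d (k + 1) (k + 1 + 1) = 0 := by
      have h1 := congrArg (fun t => t ≫ pr L _ (k + 1 + 1) r (by omega)) hz
      rw [zero_comp, Preadditive.add_comp, Category.assoc, Category.assoc, map_pr,
        d_pr (m + 1) (k + 1) (k + 1 + 1) (r - 1) r rfl (by omega),
        Preadditive.comp_add, Linear.comp_units_smul, reassoc_of% (hsz (k + 1 + 1) (r - 1) (by omega) (by omega)),
        zero_comp, smul_zero, add_zero, ← Category.assoc, ← Category.assoc z] at h1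
      exact h1
    haveI : QuasiIso (E.map φ) := inferInstance
    obtain ⟨W₁, π, hπ, wr, vr, hw, hv⟩ :=
      cone_boundary (E.map φ) k (k + 1) (k + 1 + 1) rfl rfl ur zr hur hzr
    let w₁ : W₁ ⟶ (K.total (ComplexShape.up ℤ)).X (m + 1) :=
      wr ≫ K.ιTotal (ComplexShape.up ℤ) (k + 1) r (m + 1) (by simp; omega)
    let v₁ : W₁ ⟶ (L.total (ComplexShape.up ℤ)).X m :=
      vr ≫ L.ιTotal (ComplexShape.up ℤ) k r m (by simp; omega)
    obtain ⟨W₂, π', hπ', w, v, hw', hv'⟩ := ih (r + 1) (by omega)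
      (π ≫ u + w₁ ≫ (K.total (ComplexShape.up ℤ)).d (m + 1) (m + 1 + 1))
      (π ≫ z - (w₁ ≫ (HomologicalComplex₂.total.map φ (ComplexShape.up ℤ)).f (m + 1) +
        v₁ ≫ (L.total (ComplexShape.up ℤ)).d m (m + 1)))
      (by simp [Preadditive.add_comp, hu])
      (by
        simp only [Preadditive.add_comp, Preadditive.sub_comp, Category.assoc,
          HomologicalComplex.d_comp_d, comp_zero, add_zero, HomologicalComplex.Hom.comm]
        rw [← sub_eq_zero] at hz
        have h2 : π ≫ u ≫ (HomologicalComplex₂.total.map φ (ComplexShape.up ℤ)).f (m + 1 + 1) +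
            π ≫ z ≫ (L.total (ComplexShape.up ℤ)).d (m + 1) (m + 1 + 1) = 0 := by
          rw [sub_zero] at hz
          rw [← Preadditive.comp_add, hz, comp_zero]
        rw [← h2]; abel)
      (fun p q h hq => by
        simp only [w₁, Preadditive.add_comp, Category.assoc]
        rcases lt_or_eq_of_le (Int.lt_add_one_iff.mp hq) with hq | rfl
        · rw [d_pr (m + 1) (p - 1) p (q - 1) q (by omega) (by omega)]
          simp only [Preadditive.comp_add, Linear.comp_units_smul]
          rw [hsu p q h hq, comp_zero, ι_pr_ne_assoc K (m + 1) (p - 1) q (k + 1) r _ _ (by omega),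
            ι_pr_ne_assoc K (m + 1) p (q - 1) (k + 1) r _ _ (by omega)]
          simp
        · obtain rfl : p = k + 1 + 1 := by omega
          rw [d_pr (m + 1) (k + 1) (k + 1 + 1) (q - 1) q rfl (by omega)]
          simp only [Preadditive.comp_add, Linear.comp_units_smul]
          rw [ι_pr_ne_assoc K (m + 1) (k + 1 + 1) (q - 1) (k + 1) q _ _ (by omega), ι_pr_assoc]
          simp only [zero_comp, comp_zero, smul_zero, add_zero]
          change π ≫ ur + wr ≫ (E.obj K).d (k + 1) (k + 1 + 1) = 0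
          rw [hw, add_neg_cancel])
      (fun p q h hq => by
        simp only [w₁, v₁, Preadditive.add_comp, Preadditive.sub_comp, Category.assoc]
        rcases lt_or_eq_of_le (Int.lt_add_one_iff.mp hq) with hq | rfl
        · rw [map_pr, d_pr m (p - 1) p (q - 1) q (by omega) (by omega)]
          simp only [Preadditive.comp_add, Linear.comp_units_smul]
          rw [hsz p q h hq, comp_zero, ι_pr_ne_assoc L m (p - 1) q k r _ _ (by omega),
            ι_pr_ne_assoc L m p (q - 1) k r _ _ (by omega),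
            ι_pr_ne_assoc K (m + 1) p q (k + 1) r _ _ (by omega)]
          simp
        · obtain rfl : p = k + 1 := by omega
          rw [map_pr, d_pr m k (k + 1) (q - 1) q rfl (by omega)]
          simp only [Preadditive.comp_add, Linear.comp_units_smul]
          rw [ι_pr_ne_assoc L m (k + 1) (q - 1) k q _ _ (by omega), ι_pr_assoc, ι_pr_assoc]
          simp only [zero_comp, comp_zero, smul_zero, add_zero]
          change π ≫ zr - (wr ≫ (E.map φ).f (k + 1) + vr ≫ (E.obj L).d k (k + 1)) = 0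
          rw [hv, sub_self])
    refine ⟨W₂, π' ≫ π, inferInstance, w + π' ≫ w₁, v + π' ≫ v₁, ?_, ?_⟩
    · rw [Preadditive.add_comp, hw']
      simp only [Preadditive.comp_add, Preadditive.neg_comp, Preadditive.comp_neg, Category.assoc, neg_add]
      abel
    · simp only [Preadditive.add_comp, Category.assoc]
      calc _ = (w ≫ (HomologicalComplex₂.total.map φ (ComplexShape.up ℤ)).f (m + 1) +
            v ≫ (L.total (ComplexShape.up ℤ)).d m (m + 1)) +
          π' ≫ (w₁ ≫ (HomologicalComplex₂.total.map φ (ComplexShape.up ℤ)).f (m + 1) +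
            v₁ ≫ (L.total (ComplexShape.up ℤ)).d m (m + 1)) := by
            rw [Preadditive.comp_add]; abel
        _ = _ := by rw [hv', ← Preadditive.comp_add, sub_add_cancel]

theorem quasiIso_total_map (a b : ℤ) (hK : ∀ p q : ℤ, p < a ∨ q < b → IsZero ((K.X p).X q))
    (hL : ∀ p q : ℤ, p < a ∨ q < b → IsZero ((L.X p).X q)) [QuasiIso φ] :
    QuasiIso (HomologicalComplex₂.total.map φ (ComplexShape.up ℤ)) := by
  rw [quasiIso_iff_acyclic_mappingCone]
  intro n
  obtain ⟨m, rfl⟩ : ∃ m, n = m + 1 := ⟨n - 1, by omega⟩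
  rw [exactAt_iff' _ m (m + 1) (m + 1 + 1) (by simp) (by simp),
    ShortComplex.exact_iff_exact_up_to_refinements]
  intro W x hx
  let f := HomologicalComplex₂.total.map φ (ComplexShape.up ℤ)
  change W ⟶ (CochainComplex.mappingCone f).X (m + 1) at x
  change x ≫ (CochainComplex.mappingCone f).d (m + 1) (m + 1 + 1) = 0 at hx
  let u := x ≫ (CochainComplex.mappingCone.fst f).1.v (m + 1) (m + 1 + 1) rfl
  let z := x ≫ (CochainComplex.mappingCone.snd f).v (m + 1) (m + 1) (add_zero _)
  have hu : u ≫ (K.total (ComplexShape.up ℤ)).d (m + 1 + 1) (m + 1 + 1 + 1) = 0 := by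
    have := congrArg (fun t => t ≫ (CochainComplex.mappingCone.fst f).1.v (m + 1 + 1) (m + 1 + 1 + 1) rfl) hx
    simpa [u, CochainComplex.mappingCone.d_fst_v f (m + 1) (m + 1 + 1) (m + 1 + 1 + 1) rfl rfl] using this
  have hz : u ≫ f.f (m + 1 + 1) + z ≫ (L.total (ComplexShape.up ℤ)).d (m + 1) (m + 1 + 1) = 0 := by
    have := congrArg (fun t => t ≫ (CochainComplex.mappingCone.snd f).v (m + 1 + 1) (m + 1 + 1) (add_zero _)) hx
    simpa [u, z, CochainComplex.mappingCone.d_snd_v f (m + 1) (m + 1 + 1) rfl] using this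
  obtain ⟨W', π, hπ, w, v, hw, hv⟩ := chase φ a b hK hL m (m + 3 - a - b).toNat b (Int.self_le_toNat _)
    u z hu hz (fun p q h hq => (hK p q (Or.inr hq)).eq_of_tgt _ _)
    (fun p q h hq => (hL p q (Or.inr hq)).eq_of_tgt _ _)
  refine ⟨W', π, hπ, w ≫ (CochainComplex.mappingCone.inl f).v (m + 1) m (by omega) +
    v ≫ (CochainComplex.mappingCone.inr f).f m, ?_⟩
  change π ≫ x = _ ≫ (CochainComplex.mappingCone f).d m (m + 1)
  apply CochainComplex.mappingCone.ext_to f (m + 1) (m + 1 + 1) rfl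
  · simp [Preadditive.add_comp, CochainComplex.mappingCone.d_fst_v f m (m + 1) (m + 1 + 1) rfl rfl]
    rw [hw, neg_neg]
  · simp [Preadditive.add_comp, CochainComplex.mappingCone.d_snd_v f m (m + 1) rfl]
    exact hv.symm

end Groth.Agent.TotalQis
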