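import Mathlib.Algebra.Homology.TotalComplex
import Mathlib.Algebra.Homology.ComplexShapeSigns
import Mathlib.Algebra.Homology.HomotopyCategory.Acyclic
import Mathlib.Algebra.Homology.DerivedCategory.Basic
import Mathlib.CategoryTheory.Abelian.Refinements
import Mathlib.Algebra.BigOperators.Group.Finset.Basic
import Mathlib.Order.Interval.Finset.Basic
import Mathlib.Data.Int.Interval

/-!
# Quasi-isomorphisms of uniformly bounded below double complexes induce quasi-isomorphisms of totals
-/

set_option autoImplicit false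
set_option backward.isDefEq.respectTransparency false
set_option backward.isDefEq.respectTransparency.types false

universe v u

open CategoryTheory Limits HomologicalComplex

namespace Groth.Agent.TotalQis

variable {A : Type u} [Category.{v} A] [Abelian A]

theorem quasiIso_iff_acyclic_mappingCone {K L : CochainComplex A ℤ} (f : K ⟶ L) :
    QuasiIso f ↔ (CochainComplex.mappingCone f).Acyclic := by
  rw [← HomologicalComplex.mem_quasiIso_iff, ← HomotopyCategory.quotient_map_mem_quasiIso_iff,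
    HomotopyCategory.quasiIso_eq_trW_subcategoryAcyclic]
  exact ((HomotopyCategory.subcategoryAcyclic A).trW_iff_of_distinguished _
    (HomotopyCategory.mappingCone_triangleh_distinguished f)).trans
      (HomotopyCategory.quotient_obj_mem_subcategoryAcyclic_iff_acyclic _)

/-- The cone of a quasi-isomorphism has no cohomology, in terms of components. -/
theorem cone_boundary {K L : CochainComplex A ℤ} (f : K ⟶ L) [QuasiIso f] {W : A} (l m k : ℤ)
    (hl : l + 1 = m) (hm : m + 1 = k) (u : W ⟶ K.X k) (z : W ⟶ L.X m)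
    (hu : u ≫ K.d k (k + 1) = 0) (hz : u ≫ f.f k + z ≫ L.d m k = 0) :
    ∃ (W' : A) (π : W' ⟶ W) (_ : Epi π) (w : W' ⟶ K.X m) (v : W' ⟶ L.X l),
      w ≫ K.d m k = -(π ≫ u) ∧ w ≫ f.f m + v ≫ L.d l m = π ≫ z := by
  subst hl hm
  have hac := (quasiIso_iff_acyclic_mappingCone f).1 inferInstance (l + 1)
  rw [exactAt_iff' _ l (l + 1) (l + 1 + 1) (by simp) (by simp),
    ShortComplex.exact_iff_exact_up_to_refinements] at hac
  obtain ⟨W', π, hπ, y, hy⟩ := hac
    (u ≫ (CochainComplex.mappingCone.inl f).v (l + 1 + 1) (l + 1) (by omega) +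
      z ≫ (CochainComplex.mappingCone.inr f).f (l + 1)) (by
      change _ ≫ (CochainComplex.mappingCone f).d (l + 1) (l + 1 + 1) = 0
      apply CochainComplex.mappingCone.ext_to f (l + 1 + 1) (l + 1 + 1 + 1) rfl
      · simp [Preadditive.add_comp, CochainComplex.mappingCone.d_fst_v f (l + 1) (l + 1 + 1) (l + 1 + 1 + 1) rfl rfl, hu]
      · simp [Preadditive.add_comp, CochainComplex.mappingCone.d_snd_v f (l + 1) (l + 1 + 1) rfl]
        exact hz)
  change π ≫ _ = y ≫ (CochainComplex.mappingCone f).d l (l + 1) at hy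
  refine ⟨W', π, hπ, y ≫ (CochainComplex.mappingCone.fst f).1.v l (l + 1) rfl,
    y ≫ (CochainComplex.mappingCone.snd f).v l l (add_zero l), ?_, ?_⟩
  · have := congrArg (fun t => t ≫ (CochainComplex.mappingCone.fst f).1.v (l + 1) (l + 1 + 1) rfl) hy
    simp [Preadditive.add_comp, CochainComplex.mappingCone.d_fst_v f l (l + 1) (l + 1 + 1) rfl rfl] at this
    rw [this, Category.assoc, neg_neg]
  · have := congrArg (fun t => t ≫ (CochainComplex.mappingCone.snd f).v (l + 1) (l + 1) (add_zero _)) hy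
    simp [Preadditive.add_comp, CochainComplex.mappingCone.d_snd_v f l (l + 1) rfl] at this
    rw [this, Category.assoc, Category.assoc]

variable (K L : HomologicalComplex₂ A (ComplexShape.up ℤ) (ComplexShape.up ℤ))
  [K.HasTotal (ComplexShape.up ℤ)] [L.HasTotal (ComplexShape.up ℤ)]

/-- The component of bidegree `(p, q)`. -/
noncomputable def pr (n p q : ℤ) (h : p + q = n) :
    (K.total (ComplexShape.up ℤ)).X n ⟶ (K.X p).X q :=
  K.totalDesc (fun p' q' h' => if hq : q' = q then
    (K.XXIsoOfEq _ _ _ (show p' = p by simp at h'; omega) hq).hom else 0)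

@[reassoc]
theorem ι_pr (n p q : ℤ) (h : p + q = n) :
    K.ιTotal (ComplexShape.up ℤ) p q n h ≫ pr K n p q h = 𝟙 _ := by
  simp [pr]

@[reassoc]
theorem ι_pr_ne (n p q p' q' : ℤ) (h : p + q = n) (h' : p' + q' = n) (hq : q' ≠ q) :
    K.ιTotal (ComplexShape.up ℤ) p' q' n h' ≫ pr K n p q h = 0 := by
  simp [pr, hq]

variable {K L}

/-- Components detect morphisms into a total complex with finitely many summands in each degree. -/
theorem ext_pr (a b : ℤ) (hK : ∀ p q : ℤ, p < a ∨ q < b → IsZero ((K.X p).X q)) {n : ℤ} {W : A}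
    {x y : W ⟶ (K.total (ComplexShape.up ℤ)).X n}
    (h : ∀ p q (hpq : p + q = n), x ≫ pr K n p q hpq = y ≫ pr K n p q hpq) : x = y := by
  have hid : 𝟙 ((K.total (ComplexShape.up ℤ)).X n) = ∑ q ∈ Finset.Icc b (n - a),
      pr K n (n - q) q (by omega) ≫ K.ιTotal (ComplexShape.up ℤ) (n - q) q n (by simp) := by
    apply HomologicalComplex₂.total.hom_ext
    intro p q hpq
    rw [Category.comp_id, Preadditive.comp_sum]
    simp at hpq
    obtain rfl : p = n - q := by omega
    by_cases hq : q ∈ Finset.Icc b (n - a)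
    · rw [Finset.sum_eq_single q]
      · rw [ι_pr_assoc]
      · intro q' _ hne
        rw [ι_pr_ne_assoc _ _ _ _ _ _ _ _ (Ne.symm hne), zero_comp]
      · exact fun h' => absurd hq h'
    · refine (hK (n - q) q ?_).eq_of_src _ _
      simp only [Finset.mem_Icc, not_and, not_le] at hq
      by_cases hb : b ≤ q
      · left; have := hq hb; omega
      · right; omega
  rw [← Category.comp_id x, ← Category.comp_id y, hid]
  simp only [Preadditive.comp_sum]
  exact Finset.sum_congr rfl fun q _ => by rw [reassoc_of% h]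

theorem d_pr (n p₀ p q₀ q : ℤ) (hp : p₀ + 1 = p) (hq : q₀ + 1 = q) (h : p + q = n + 1) :
    (K.total (ComplexShape.up ℤ)).d n (n + 1) ≫ pr K (n + 1) p q h =
      pr K n p₀ q (by omega) ≫ (K.d p₀ p).f q +
        p.negOnePow • (pr K n p q₀ (by omega) ≫ (K.X p).d q₀ q) := by
  subst hp hq
  apply HomologicalComplex₂.total.hom_ext
  intro p' q' h'
  simp at h'
  rw [HomologicalComplex₂.total_d, Preadditive.add_comp, Preadditive.comp_add,
    HomologicalComplex₂.ι_D₁_assoc, HomologicalComplex₂.ι_D₂_assoc]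
  rw [K.d₁_eq (ComplexShape.up ℤ) (show (ComplexShape.up ℤ).Rel p' (p' + 1) from rfl) q' (n + 1) (by simp; omega),
    K.d₂_eq (ComplexShape.up ℤ) p' (show (ComplexShape.up ℤ).Rel q' (q' + 1) from rfl) (n + 1) (by simp; omega)]
  simp only [Linear.units_smul_comp, Category.assoc, Preadditive.comp_add, Linear.comp_units_smul,
    ComplexShape.ε₁_def, ComplexShape.ε₂_def, one_smul]
  by_cases e : q' = q₀ + 1
  · subst e
    obtain rfl : p₀ = p' := by omega
    rw [ι_pr, ι_pr_assoc, ι_pr_ne K (n + 1) (p₀ + 1) (q₀ + 1) p₀ (q₀ + 1 + 1) _ _ (by omega),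
      ι_pr_ne_assoc K n (p₀ + 1) q₀ p₀ (q₀ + 1) _ _ (by omega)]
    simp
  · by_cases e' : q' = q₀
    · subst e'
      obtain rfl : p' = p₀ + 1 := by omega
      rw [ι_pr, ι_pr_assoc, ι_pr_ne K (n + 1) (p₀ + 1) (q' + 1) (p₀ + 1 + 1) q' _ _ (by omega),
        ι_pr_ne_assoc K n p₀ (q' + 1) (p₀ + 1) q' _ _ (by omega)]
      simp
    · rw [ι_pr_ne K (n + 1) (p₀ + 1) (q₀ + 1) _ _ _ _ e,
        ι_pr_ne K (n + 1) (p₀ + 1) (q₀ + 1) _ _ _ _ (by omega),
        ι_pr_ne_assoc K n p₀ (q₀ + 1) _ _ _ _ e, ι_pr_ne_assoc K n (p₀ + 1) q₀ _ _ _ _ e']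
      simp

end Groth.Agent.TotalQis
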